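import Mathlib
import Cfsg.Prelude.Def_Classical
import Cfsg.Prelude.Def_ChevD4

set_option autoImplicit false

/-!
# Project D4ISO (S1082: `D₄(F) ≅ PΩ₈⁺(F)` over every field): definitions

`V = F⁸` with index set `I8 = Fin 4 ⊕ Fin 4` (`inl i ↔ e_i`, `inr i ↔ f_i`), `Q(v) = Σ v(e_i) v(f_i)`.
* `eM a b = E_{ab} − E_{b'a'}` (`a' = opp a`), `xM a b t = 1 + t e_{ab}`: the long root elements
  (`Valid a b`: `a ≠ b`, `a ≠ b'`).
* `TM u w`: the Siegel matrix `x ↦ x + B(x,u) w − B(x,w) u − Q(w) B(x,u) u`.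
* The module `L = Lie(Spin₈)` in the *tensor model*: pairs `(t, s)`, `t` an `8 × 8` matrix (a tensor
  in `V ⊗ V`, taken modulo symmetric matrices), `s` a scalar, subject to `β(t) = 2 s`
  (`β(t) = tr(tᵀ (Nᵀ − N))`, `N = Σ E_{f_i e_i}`, `Q(u) = uᵀ N u`).  A matrix `g` acts by
  `(t, s) ↦ (g t gᵀ, s − tr(tᵀ (gᵀ N g − N)))`.
* `bT`: the Chevalley basis (`inl k ↦ h_{p_k}`, `inr r ↦ e_r`), `coordT`: the coordinates,
  `rhoM g`: the matrix of `g` on `L` in this basis.
-/

namespace Cfsg.Agent.Lib.Helper95.D4Iso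

open Matrix

/-- index type of the natural module: `inl i ↔ e_i`, `inr i ↔ f_i` -/
abbrev I8 : Type := Fin 4 ⊕ Fin 4

/-- the opposite index -/
def opp : I8 → I8 := Sum.swap

@[simp] theorem opp_opp (a : I8) : opp (opp a) = a := Sum.swap_swap a

theorem opp_ne (a : I8) : opp a ≠ a := by
  rcases a with a | a <;> simp [opp]

theorem opp_injective : Function.Injective opp := fun a b h => by
  have := congrArg opp h
  simpa using this

/-- the orthogonal group `O₈⁺(F)` as a matrix group -/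
abbrev OG (F : Type*) [Field F] : Subgroup (GL I8 F) :=
  Cfsg.isometryGroup F (Cfsg.quadFormPlus 4 F)

/-- valid pairs of indices (they label the 24 roots, each twice) -/
def Valid (a b : I8) : Prop := a ≠ b ∧ a ≠ opp b

instance (a b : I8) : Decidable (Valid a b) := by unfold Valid; infer_instance

section ring
variable {R : Type*} [CommRing R]

/-- the polar form `B(x,y) = Σ_a x_a y_{a'}` -/
def Bf (x y : I8 → R) : R := ∑ a : I8, x a * y (opp a)

/-- `Q(v) = Σ_i v(e_i) v(f_i)` over a commutative ring -/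
def Qr (v : I8 → R) : R := ∑ i : Fin 4, v (Sum.inl i) * v (Sum.inr i)

/-- the Siegel matrix `T_{u,w} : x ↦ x + B(x,u) w − B(x,w) u − Q(w) B(x,u) u` -/
def TM (u w : I8 → R) : Matrix I8 I8 R :=
  1 + vecMulVec w (u ∘ opp) - vecMulVec u (w ∘ opp) - Qr w • vecMulVec u (u ∘ opp)

/-- `e_{a,b} = E_{ab} − E_{b'a'}` -/
def eM (a b : I8) : Matrix I8 I8 R := Matrix.single a b 1 - Matrix.single (opp b) (opp a) 1

/-- `x_{a,b}(t) = 1 + t e_{a,b}` -/
def xM (a b : I8) (t : R) : Matrix I8 I8 R := 1 + t • eM a b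

/-- `N = Σ_i E_{f_i e_i}`, so that `Q(u) = uᵀ N u` -/
def NM : Matrix I8 I8 R := Matrix.of fun a b =>
  match a, b with
  | Sum.inr i, Sum.inl j => if i = j then 1 else 0
  | _, _ => 0

/-- the cocycle `Δ_g = gᵀ N g − N` -/
def Dl (g : Matrix I8 I8 R) : Matrix I8 I8 R := gᵀ * NM * g - NM

/-- the action of a matrix on the tensor model -/
def actT (g : Matrix I8 I8 R) (p : Matrix I8 I8 R × R) : Matrix I8 I8 R × R :=
  (g * p.1 * gᵀ, p.2 - Matrix.trace (p.1ᵀ * Dl g))

/-- `β(t) = tr(tᵀ (Nᵀ − N))` -/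
def betaT (t : Matrix I8 I8 R) : R := Matrix.trace (tᵀ * (NMᵀ - NM))

/-- the constraint defining `L` inside (tensors mod symmetric) × scalars -/
def InL (p : Matrix I8 I8 R × R) : Prop := betaT p.1 = 2 * p.2

end ring

/-- decoding `0..7` as indices (`0..3 ↦ e`, `4..7 ↦ f`) -/
def i8 (n : ℕ) : I8 :=
  if n < 4 then Sum.inl ⟨n % 4, Nat.mod_lt _ (by norm_num)⟩
  else Sum.inr ⟨n % 4, Nat.mod_lt _ (by norm_num)⟩

def rootAList : List ℕ := [4, 4, 3, 4, 2, 1, 5, 3, 5, 2, 3, 6, 2, 2, 1, 1, 1, 1, 0, 0, 0, 0, 0, 0]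
def rootBList : List ℕ := [5, 6, 4, 7, 4, 4, 6, 5, 7, 5, 6, 7, 3, 7, 6, 3, 7, 2, 5, 6, 3, 7, 2, 1]
def rootSgList : List ℤ :=
  [1, 1, -1, 1, 1, -1, -1, 1, -1, -1, -1, 1, -1, -1, -1, 1, 1, 1, -1, 1, -1, -1, -1, -1]

/-- the basis tensor of the root `r` is `rootSg r • E_{rootA r, rootB r}` -/
def rootA (r : Fin 24) : I8 := i8 (rootAList.getD r.val 0)
def rootB (r : Fin 24) : I8 := i8 (rootBList.getD r.val 0)
def rootSg (r : Fin 24) : ℤ := rootSgList.getD r.val 0

/-- the root element of the root `r` is `x_r(t) = xM (rootA r) (opp (rootB r)) (−rootSg r · t)` -/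
def rootXb (r : Fin 24) : I8 := opp (rootB r)

section ring
variable {R : Type*} [CommRing R]

/-- `η_i = E_{e_i f_i}` -/
def etaT (i : Fin 4) : Matrix I8 I8 R := Matrix.single (Sum.inl i) (Sum.inr i) 1

/-- the Chevalley basis of `L` in the tensor model -/
def bT : Cfsg.Lie.chevD4.Idx → Matrix I8 I8 R × R
  | Sum.inl k =>
    if k.val = 0 then (-etaT 0 + etaT 1, 0)
    else if k.val = 1 then (-etaT 1 + etaT 2, 0)
    else if k.val = 2 then (-etaT 2 + etaT 3, 0)
    else (-etaT 2 - etaT 3, -1)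
  | Sum.inr r => (((rootSg r : ℤ) : R) • Matrix.single (rootA r) (rootB r) 1, 0)

/-- the coordinates on `L` -/
def coordT (p : Matrix I8 I8 R × R) : Cfsg.Lie.chevD4.Idx → R
  | Sum.inl k =>
    let d : Fin 4 → R := fun i => p.1 (Sum.inl i) (Sum.inr i) - p.1 (Sum.inr i) (Sum.inl i)
    if k.val = 0 then -d 0
    else if k.val = 1 then -d 0 - d 1
    else if k.val = 2 then d 3 - p.2
    else -p.2
  | Sum.inr r => ((rootSg r : ℤ) : R) * (p.1 (rootA r) (rootB r) - p.1 (rootB r) (rootA r))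

/-- the matrix of `g` acting on `L` in the Chevalley basis -/
def rhoM (g : Matrix I8 I8 R) : Matrix Cfsg.Lie.chevD4.Idx Cfsg.Lie.chevD4.Idx R :=
  Matrix.of fun i j => coordT (actT g (bT j)) i

end ring

/-! ### Subgroups of `O₈⁺(F)` -/

section groups
variable (F : Type*) [Field F]

/-- the level of an index (`e_i, f_i ↦ i`) -/
def lvl : I8 → Fin 4 := Sum.elim id id

/-- the subgroup of `O₈⁺(F)` generated by the root elements `x_{a,b}(t)` -/
def E0 : Subgroup ↥(OG F) :=
  Subgroup.closure {g | ∃ a b, Valid a b ∧ ∃ t : F, ((g : GL I8 F) : Matrix I8 I8 F) = xM a b t}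

/-- the subgroup generated by the root elements with both indices of level in `S` -/
def E0S (S : Finset (Fin 4)) : Subgroup ↥(OG F) :=
  Subgroup.closure {g | ∃ a b, Valid a b ∧ lvl a ∈ S ∧ lvl b ∈ S ∧
    ∃ t : F, ((g : GL I8 F) : Matrix I8 I8 F) = xM a b t}

/-- the subgroup generated by all Siegel elements -/
def ES : Subgroup ↥(OG F) :=
  Subgroup.closure {g | ∃ u w : I8 → F, Qr u = 0 ∧ Bf u w = 0 ∧
    ((g : GL I8 F) : Matrix I8 I8 F) = TM u w}

end groups

/-- `u` is supported on the indices of level in `S` -/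
def SuppIn {R : Type*} [Zero R] (S : Finset (Fin 4)) (u : I8 → R) : Prop :=
  ∀ a, lvl a ∉ S → u a = 0

/-- the standard basis vector `e_a` -/
def eV {R : Type*} [CommRing R] (a : I8) : I8 → R := Pi.single a 1

/-- the torus element `d(μ)`: `e_3 ↦ μ e_3`, `f_3 ↦ μ⁻¹ f_3`, all other basis vectors fixed -/
def dM {F : Type*} [Field F] (μ : F) : Matrix I8 I8 F :=
  Matrix.diagonal fun a => if a = Sum.inl 3 then μ else if a = Sum.inr 3 then μ⁻¹ else 1

/-- the swap `e_3 ↔ f_3` -/
def sM {R : Type*} [CommRing R] : Matrix I8 I8 R :=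
  Matrix.of fun a b =>
    if a = Sum.inl 3 then (if b = Sum.inr 3 then 1 else 0)
    else if a = Sum.inr 3 then (if b = Sum.inl 3 then 1 else 0)
    else if a = b then 1 else 0

/-! ### The representation: first and second order terms, integer tables -/

section rep
variable {R : Type*} [CommRing R]

/-- `g` preserves `Q` -/
def IsIsom (g : Matrix I8 I8 R) : Prop := ∀ x : I8 → R, Qr (g *ᵥ x) = Qr x

/-- first order term of the action of `1 + τ e` -/
def D1 (e : Matrix I8 I8 R) (p : Matrix I8 I8 R × R) : Matrix I8 I8 R × R :=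
  (e * p.1 + p.1 * eᵀ, - Matrix.trace (p.1ᵀ * (eᵀ * NM + NM * e)))

/-- second order term of the action of `1 + τ e` -/
def D2 (e : Matrix I8 I8 R) (p : Matrix I8 I8 R × R) : Matrix I8 I8 R × R :=
  (e * p.1 * eᵀ, - Matrix.trace (p.1ᵀ * (eᵀ * NM * e)))

/-- base change of an element of the tensor model -/
def mapP {R' : Type*} [CommRing R'] (φ : R →+* R') (p : Matrix I8 I8 R × R) :
    Matrix I8 I8 R' × R' := (p.1.map φ, φ p.2)

end rep

/-- integer first order coefficients of `ρ(x_{a,b}(τ))` -/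
def c1Z (a b : I8) (i j : Cfsg.Lie.chevD4.Idx) : ℤ :=
  coordT (D1 (eM a b : Matrix I8 I8 ℤ) (bT j)) i

/-- integer second order coefficients of `ρ(x_{a,b}(τ))` -/
def c2Z (a b : I8) (i j : Cfsg.Lie.chevD4.Idx) : ℤ :=
  coordT (D2 (eM a b : Matrix I8 I8 ℤ) (bT j)) i

open Cfsg.Lie in
/-- coefficient of `t` in the entry `(row, col)` of `chevD4.xMat F r t` -/
def m1Z (r : Fin chevD4.nroots) (row col : chevD4.Idx) : ℤ :=
  match col with
  | Sum.inl i =>
    (match row with
     | Sum.inl _ => 0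
     | Sum.inr u => if u.val = r.val then -((chevD4.cartanSR.getD i.val #[]).getD r.val 0) else 0)
  | Sum.inr s =>
    if s.val = r.val then 0
    else if s.val = chevD4.negIdx.getD r.val 0 then
      (match row with
       | Sum.inl i => (chevD4.coroot.getD r.val #[]).getD i.val 0
       | Sum.inr _ => 0)
    else
      (match row with
       | Sum.inl _ => 0
       | Sum.inr u =>
         (((chevD4.chainCoeff r.val s.val u.val).filter fun km => km.1 = 1).map fun km => km.2).sum)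

open Cfsg.Lie in
/-- coefficient of `t ^ 2` in the entry `(row, col)` of `chevD4.xMat F r t` -/
def m2Z (r : Fin chevD4.nroots) (row col : chevD4.Idx) : ℤ :=
  match col with
  | Sum.inl _ => 0
  | Sum.inr s =>
    if s.val = r.val then 0
    else if s.val = chevD4.negIdx.getD r.val 0 then
      (match row with
       | Sum.inl _ => 0
       | Sum.inr u => if u.val = s.val then 0 else if u.val = r.val then -1 else 0)
    else
      (match row with
       | Sum.inl _ => 0
       | Sum.inr u =>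
         (((chevD4.chainCoeff r.val s.val u.val).filter fun km => km.1 = 2).map fun km => km.2).sum)

end Cfsg.Agent.Lib.Helper95.D4Iso
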