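import Mathlib
import Cfsg.Agent.Lib.Helper95.D4Iso.Defs

set_option autoImplicit false

/-! D4ISO [R-CHK]: the integer check `ρ(x_r) = xMat r` root by root (kernel evaluation). -/

namespace Cfsg.Agent.Lib.Helper95.D4Iso

open Cfsg.Lie

set_option maxRecDepth 100000 in
theorem chk_0 : Valid (rootA (0 : Fin 24)) (rootXb (0 : Fin 24)) ∧ ∀ i j : chevD4.Idx,
    (-rootSg (0 : Fin 24)) * c1Z (rootA (0 : Fin 24)) (rootXb (0 : Fin 24)) i j = m1Z (0 : Fin 24) i j ∧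
    c2Z (rootA (0 : Fin 24)) (rootXb (0 : Fin 24)) i j = m2Z (0 : Fin 24) i j := by
  decide +kernel

set_option maxRecDepth 100000 in
theorem chk_1 : Valid (rootA (1 : Fin 24)) (rootXb (1 : Fin 24)) ∧ ∀ i j : chevD4.Idx,
    (-rootSg (1 : Fin 24)) * c1Z (rootA (1 : Fin 24)) (rootXb (1 : Fin 24)) i j = m1Z (1 : Fin 24) i j ∧
    c2Z (rootA (1 : Fin 24)) (rootXb (1 : Fin 24)) i j = m2Z (1 : Fin 24) i j := by
  decide +kernel

set_option maxRecDepth 100000 in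
theorem chk_2 : Valid (rootA (2 : Fin 24)) (rootXb (2 : Fin 24)) ∧ ∀ i j : chevD4.Idx,
    (-rootSg (2 : Fin 24)) * c1Z (rootA (2 : Fin 24)) (rootXb (2 : Fin 24)) i j = m1Z (2 : Fin 24) i j ∧
    c2Z (rootA (2 : Fin 24)) (rootXb (2 : Fin 24)) i j = m2Z (2 : Fin 24) i j := by
  decide +kernel

set_option maxRecDepth 100000 in
theorem chk_3 : Valid (rootA (3 : Fin 24)) (rootXb (3 : Fin 24)) ∧ ∀ i j : chevD4.Idx,
    (-rootSg (3 : Fin 24)) * c1Z (rootA (3 : Fin 24)) (rootXb (3 : Fin 24)) i j = m1Z (3 : Fin 24) i j ∧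
    c2Z (rootA (3 : Fin 24)) (rootXb (3 : Fin 24)) i j = m2Z (3 : Fin 24) i j := by
  decide +kernel

end Cfsg.Agent.Lib.Helper95.D4Iso
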