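import Mathlib
import Cfsg.Agent.Lib.Helper95.D4Iso.Defs

set_option autoImplicit false

/-! D4ISO [R-CHK]: the integer check `ρ(x_r) = xMat r` root by root (kernel evaluation). -/

namespace Cfsg.Agent.Lib.Helper95.D4Iso

open Cfsg.Lie

set_option maxRecDepth 100000 in
theorem chk_20 : Valid (rootA (20 : Fin 24)) (rootXb (20 : Fin 24)) ∧ ∀ i j : chevD4.Idx,
    (-rootSg (20 : Fin 24)) * c1Z (rootA (20 : Fin 24)) (rootXb (20 : Fin 24)) i j = m1Z (20 : Fin 24) i j ∧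
    c2Z (rootA (20 : Fin 24)) (rootXb (20 : Fin 24)) i j = m2Z (20 : Fin 24) i j := by
  decide +kernel

set_option maxRecDepth 100000 in
theorem chk_21 : Valid (rootA (21 : Fin 24)) (rootXb (21 : Fin 24)) ∧ ∀ i j : chevD4.Idx,
    (-rootSg (21 : Fin 24)) * c1Z (rootA (21 : Fin 24)) (rootXb (21 : Fin 24)) i j = m1Z (21 : Fin 24) i j ∧
    c2Z (rootA (21 : Fin 24)) (rootXb (21 : Fin 24)) i j = m2Z (21 : Fin 24) i j := by
  decide +kernel

set_option maxRecDepth 100000 in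
theorem chk_22 : Valid (rootA (22 : Fin 24)) (rootXb (22 : Fin 24)) ∧ ∀ i j : chevD4.Idx,
    (-rootSg (22 : Fin 24)) * c1Z (rootA (22 : Fin 24)) (rootXb (22 : Fin 24)) i j = m1Z (22 : Fin 24) i j ∧
    c2Z (rootA (22 : Fin 24)) (rootXb (22 : Fin 24)) i j = m2Z (22 : Fin 24) i j := by
  decide +kernel

set_option maxRecDepth 100000 in
theorem chk_23 : Valid (rootA (23 : Fin 24)) (rootXb (23 : Fin 24)) ∧ ∀ i j : chevD4.Idx,
    (-rootSg (23 : Fin 24)) * c1Z (rootA (23 : Fin 24)) (rootXb (23 : Fin 24)) i j = m1Z (23 : Fin 24) i j ∧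
    c2Z (rootA (23 : Fin 24)) (rootXb (23 : Fin 24)) i j = m2Z (23 : Fin 24) i j := by
  decide +kernel

end Cfsg.Agent.Lib.Helper95.D4Iso
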