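import Mathlib
import Cfsg.Agent.Lib.Helper95.D4Iso.Defs
import Cfsg.Agent.Lib.Helper95.D4Iso.Chk0
import Cfsg.Agent.Lib.Helper95.D4Iso.Chk1
import Cfsg.Agent.Lib.Helper95.D4Iso.Chk2
import Cfsg.Agent.Lib.Helper95.D4Iso.Chk3
import Cfsg.Agent.Lib.Helper95.D4Iso.Chk4
import Cfsg.Agent.Lib.Helper95.D4Iso.Chk5

set_option autoImplicit false

/-! D4ISO [R-CHK]: the integer check for all roots. -/

namespace Cfsg.Agent.Lib.Helper95.D4Iso

open Cfsg.Lie

theorem chk (r : Fin 24) : Valid (rootA r) (rootXb r) ∧ ∀ i j : chevD4.Idx,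
    (-rootSg r) * c1Z (rootA r) (rootXb r) i j = m1Z r i j ∧
    c2Z (rootA r) (rootXb r) i j = m2Z r i j := by
  fin_cases r
  · exact chk_0
  · exact chk_1
  · exact chk_2
  · exact chk_3
  · exact chk_4
  · exact chk_5
  · exact chk_6
  · exact chk_7
  · exact chk_8
  · exact chk_9
  · exact chk_10
  · exact chk_11
  · exact chk_12
  · exact chk_13
  · exact chk_14
  · exact chk_15
  · exact chk_16
  · exact chk_17
  · exact chk_18
  · exact chk_19
  · exact chk_20
  · exact chk_21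
  · exact chk_22
  · exact chk_23

end Cfsg.Agent.Lib.Helper95.D4Iso
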