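import Mathlib
import Cfsg.Agent.Lib.Helper95.D4Iso.Defs
import Cfsg.Agent.Lib.Helper50.D4IsoGSiegel
import Cfsg.Agent.Lib.Helper98.D4IsoGMem

set_option autoImplicit false

/-!
# D4ISO-[G-O2]: an isometry fixing `e_c` for all `c` of level `≠ 3` is `d(μ)` or `s d(μ)`
-/

namespace Cfsg.Agent.Lib.Helper95.D4Iso

open Matrix
open Cfsg.Agent.Lib.Helper98.D4Iso (mem_OG_iff Bf_OG)
open Cfsg.Agent.Lib.Helper50.D4Iso (Bf_eV_right Qr_eV)

variable {F : Type*} [Field F]

theorem go2_lvl_opp (a : I8) : lvl (opp a) = lvl a := by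
  rcases a with a | a <;> rfl

theorem go2_mulVec_eV (M : Matrix I8 I8 F) (c r : I8) : (M *ᵥ eV c) r = M r c := by
  simp [eV]

theorem go2_eV_apply (a b : I8) : (eV a : I8 → F) b = if b = a then 1 else 0 := by
  simp [eV, Pi.single_apply]

theorem go2_lvl_eq_three (d : I8) (h : lvl d = 3) : d = Sum.inl 3 ∨ d = Sum.inr 3 := by
  rcases d with d | d
  · left; simp only [lvl, Sum.elim_inl, id] at h; rw [h]
  · right; simp only [lvl, Sum.elim_inr, id] at h; rw [h]

theorem eq_dM_or_sM (g : ↥(OG F))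
    (hg : ∀ c : I8, lvl c ≠ 3 → ((g : GL I8 F) : Matrix I8 I8 F) *ᵥ eV c = eV c) :
    ∃ μ : F, μ ≠ 0 ∧ (((g : GL I8 F) : Matrix I8 I8 F) = dM μ ∨
      ((g : GL I8 F) : Matrix I8 I8 F) = sM * dM μ) := by
  set M : Matrix I8 I8 F := ((g : GL I8 F) : Matrix I8 I8 F) with hM
  have hQ : ∀ x, Qr (M *ᵥ x) = Qr x := (mem_OG_iff g.1).1 g.2
  have hB : ∀ x y, Bf (M *ᵥ x) (M *ᵥ y) = Bf x y := Bf_OG g
  -- entries of the two last columns outside the last two rows vanish
  have hz : ∀ c d : I8, lvl c = 3 → lvl d ≠ 3 → M d c = 0 := by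
    intro c d hc hd
    have h1 := hB (eV c) (eV (opp d))
    rw [hg (opp d) (by rw [go2_lvl_opp]; exact hd), Bf_eV_right, Bf_eV_right, opp_opp, go2_mulVec_eV,
      go2_eV_apply] at h1
    rw [h1, if_neg]
    rintro rfl
    exact hd hc
  -- the fixed columns
  have hfix : ∀ c d : I8, lvl c ≠ 3 → M d c = if d = c then 1 else 0 := by
    intro c d hc
    rw [← go2_mulVec_eV M c d, hg c hc, go2_eV_apply]
  set α := M (Sum.inl 3) (Sum.inl 3) with hα
  set β := M (Sum.inr 3) (Sum.inl 3) with hβ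
  set γ := M (Sum.inl 3) (Sum.inr 3) with hγ
  set δ := M (Sum.inr 3) (Sum.inr 3) with hδ
  have h30 : (3 : Fin 4) ≠ 0 := by decide
  have h31 : (3 : Fin 4) ≠ 1 := by decide
  have h32 : (3 : Fin 4) ≠ 2 := by decide
  have hl0 : ∀ i : Fin 4, i ≠ 3 → lvl (Sum.inl i : I8) ≠ 3 := fun i hi => by simpa [lvl] using hi
  have hr0 : ∀ i : Fin 4, i ≠ 3 → lvl (Sum.inr i : I8) ≠ 3 := fun i hi => by simpa [lvl] using hi
  have hl3 : lvl (Sum.inl 3 : I8) = 3 := rfl
  have hr3 : lvl (Sum.inr 3 : I8) = 3 := rfl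
  -- `Q (M e₃) = α β = 0`
  have hab : α * β = 0 := by
    have h1 := hQ (eV (Sum.inl 3))
    rw [Qr_eV] at h1
    unfold Qr at h1
    rw [Fin.sum_univ_four] at h1
    simp only [go2_mulVec_eV] at h1
    rw [hz _ _ hl3 (hl0 0 h30.symm), hz _ _ hl3 (hl0 1 h31.symm), hz _ _ hl3 (hl0 2 h32.symm)] at h1
    simpa using h1
  have hcd : γ * δ = 0 := by
    have h1 := hQ (eV (Sum.inr 3))
    rw [Qr_eV] at h1
    unfold Qr at h1
    rw [Fin.sum_univ_four] at h1
    simp only [go2_mulVec_eV] at h1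
    rw [hz _ _ hr3 (hl0 0 h30.symm), hz _ _ hr3 (hl0 1 h31.symm), hz _ _ hr3 (hl0 2 h32.symm)] at h1
    simpa using h1
  -- `B (M e₃, M f₃) = α δ + β γ = 1`
  have hone : α * δ + β * γ = 1 := by
    have h1 := hB (eV (Sum.inl 3)) (eV (Sum.inr 3))
    rw [Bf_eV_right] at h1
    unfold Bf at h1
    rw [Fintype.sum_sum_type, Fin.sum_univ_four, Fin.sum_univ_four] at h1
    simp only [go2_mulVec_eV, opp, Sum.swap_inl, Sum.swap_inr] at h1
    rw [hz _ _ hl3 (hl0 0 h30.symm), hz _ _ hl3 (hl0 1 h31.symm), hz _ _ hl3 (hl0 2 h32.symm),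
      hz _ _ hl3 (hr0 0 h30.symm), hz _ _ hl3 (hr0 1 h31.symm), hz _ _ hl3 (hr0 2 h32.symm)] at h1
    simp only [go2_eV_apply] at h1
    simpa using h1
  -- entries of `M`
  have hent : ∀ d c : I8, M d c =
      if lvl c ≠ 3 then (if d = c then 1 else 0)
      else if lvl d ≠ 3 then 0
      else if c = Sum.inl 3 then (if d = Sum.inl 3 then α else β)
      else (if d = Sum.inl 3 then γ else δ) := by
    intro d c
    by_cases hc : lvl c ≠ 3
    · rw [if_pos hc]; exact hfix c d hc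
    · rw [if_neg hc]
      push Not at hc
      by_cases hd : lvl d ≠ 3
      · rw [if_pos hd]; exact hz c d hc hd
      · rw [if_neg hd]
        push Not at hd
        rcases go2_lvl_eq_three c hc with rfl | rfl <;> rcases go2_lvl_eq_three d hd with rfl | rfl <;> simp [hα, hβ, hγ, hδ]
  by_cases hβ0 : β = 0
  · -- `M = dM α`
    have hαδ : α * δ = 1 := by rw [hβ0, zero_mul, add_zero] at hone; exact hone
    have hα0 : α ≠ 0 := left_ne_zero_of_mul_eq_one hαδ
    have hδ' : δ = α⁻¹ := eq_inv_of_mul_eq_one_right hαδ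
    have hγ0 : γ = 0 := by
      rcases mul_eq_zero.1 hcd with h | h
      · exact h
      · exfalso; rw [h, mul_zero] at hαδ; exact zero_ne_one hαδ
    refine ⟨α, hα0, Or.inl ?_⟩
    ext d c
    rw [hent d c]
    rcases d with d | d <;> rcases c with c | c <;> fin_cases d <;> fin_cases c <;>
      simp [dM, lvl, hβ0, hγ0, hδ']
  · -- `M = sM * dM β`
    have hα0 : α = 0 := by
      rcases mul_eq_zero.1 hab with h | h
      · exact h
      · exact absurd h hβ0
    have hβγ : β * γ = 1 := by rw [hα0, zero_mul, zero_add] at hone; exact hone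
    have hγ' : γ = β⁻¹ := eq_inv_of_mul_eq_one_right hβγ
    have hδ0 : δ = 0 := by
      rcases mul_eq_zero.1 hcd with h | h
      · exfalso; rw [h, mul_zero] at hβγ; exact zero_ne_one hβγ
      · exact h
    refine ⟨β, hβ0, Or.inr ?_⟩
    ext d c
    rw [hent d c]
    rcases d with d | d <;> rcases c with c | c <;> fin_cases d <;> fin_cases c <;>
      simp [dM, sM, lvl, Matrix.mul_apply, Matrix.diagonal_apply, hα0, hδ0, hγ']

end Cfsg.Agent.Lib.Helper95.D4Iso
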