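import Mathlib
import Cfsg.Agent.Lib.Helper95.D4Iso.Defs
import Cfsg.Agent.Lib.Helper95.D4Iso.GO2
import Cfsg.Agent.Lib.Helper98.D4IsoGMem
import Cfsg.Agent.Lib.Helper98.D4IsoGTorus
import Cfsg.Agent.Lib.Helper38.D4IsoGComm
import Cfsg.Agent.Lib.Helper38.D4IsoGES

set_option autoImplicit false

/-!
# D4ISO-[G-ASM]: `[O₈⁺(F), O₈⁺(F)] = E0 F`
-/

namespace Cfsg.Agent.Lib.Helper95.D4Iso

open Matrix
open scoped commutatorElement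
open Cfsg.Agent.Lib.Helper98.D4Iso (OG_ext dM_sq_mem dM_mul sM_mul_sM sM_dM_sM)
open Cfsg.Agent.Lib.Helper38.D4Iso (E0_normal exists_reduce E0_le_commutator)

variable {F : Type*} [Field F]

/-- the matrix of an element of `O₈⁺(F)` -/
abbrev matO (g : ↥(OG F)) : Matrix I8 I8 F := ((g : GL I8 F) : Matrix I8 I8 F)

theorem matO_mul (g h : ↥(OG F)) : matO (g * h) = matO g * matO h := rfl

theorem sM_dM (μ : F) (hμ : μ ≠ 0) : (sM : Matrix I8 I8 F) * dM μ = dM μ⁻¹ * sM := by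
  have h := sM_dM_sM μ hμ
  calc (sM : Matrix I8 I8 F) * dM μ = sM * dM μ * (sM * sM) := by rw [sM_mul_sM, mul_one]
    _ = sM * dM μ * sM * sM := by rw [mul_assoc (sM * dM μ)]
    _ = dM μ⁻¹ * sM := by rw [h]

/-- if `z (r₂ r₁) = r₁ r₂` on matrices with `z = d(ν²)` then `⁅r₁, r₂⁆ ∈ E0` -/
theorem comm_mem_of (r₁ r₂ : ↥(OG F)) (ν : F) (hν : ν ≠ 0)
    (h : dM (ν ^ 2) * (matO r₂ * matO r₁) = matO r₁ * matO r₂) : ⁅r₁, r₂⁆ ∈ E0 F := by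
  apply dM_sq_mem ν hν
  have h1 : ⁅r₁, r₂⁆ * (r₂ * r₁) = r₁ * r₂ := by
    rw [commutatorElement_def]; group
  have h2 : matO ⁅r₁, r₂⁆ * (matO r₂ * matO r₁) = matO r₁ * matO r₂ := by
    rw [← matO_mul, ← matO_mul, ← matO_mul, h1]
  have hu : IsUnit (matO r₂ * matO r₁) := by
    rw [← matO_mul]
    exact ⟨((r₂ * r₁ : ↥(OG F)) : GL I8 F), rfl⟩
  exact hu.mul_left_injective (h2.trans h.symm)

/-- the reduced form of an element of `O₈⁺(F)` modulo `E0` -/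
def IsRed (r : ↥(OG F)) : Prop :=
  ∃ μ : F, μ ≠ 0 ∧ (matO r = dM μ ∨ matO r = sM * dM μ)

theorem comm_mem_sd (r₁ r₂ : ↥(OG F)) (lam μ : F) (hl : lam ≠ 0) (hμ : μ ≠ 0)
    (h1 : matO r₁ = sM * dM lam) (h2 : matO r₂ = dM μ) : ⁅r₁, r₂⁆ ∈ E0 F := by
  apply comm_mem_of r₁ r₂ μ⁻¹ (inv_ne_zero hμ)
  rw [h1, h2]
  -- `d(μ⁻²) d(μ) s d(λ) = s d(λ) d(μ)`
  have hμi : μ⁻¹ ≠ 0 := inv_ne_zero hμ
  have hμ2 : μ⁻¹ ^ 2 ≠ 0 := pow_ne_zero 2 hμi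
  have e1 : μ⁻¹ ^ 2 * μ = μ⁻¹ := by field_simp
  calc dM (μ⁻¹ ^ 2) * (dM μ * (sM * dM lam))
      = dM (μ⁻¹ ^ 2) * dM μ * sM * dM lam := by simp only [mul_assoc]
    _ = dM μ⁻¹ * sM * dM lam := by rw [dM_mul _ _ hμ2 hμ, e1]
    _ = sM * dM μ * dM lam := by rw [sM_dM μ hμ]
    _ = sM * dM lam * dM μ := by
        rw [mul_assoc, mul_assoc, dM_mul _ _ hμ hl, dM_mul _ _ hl hμ, mul_comm]

theorem comm_mem_red (r₁ r₂ : ↥(OG F)) (h1 : IsRed r₁) (h2 : IsRed r₂) : ⁅r₁, r₂⁆ ∈ E0 F := by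
  obtain ⟨lam, hl, h1 | h1⟩ := h1 <;> obtain ⟨μ, hμ, h2 | h2⟩ := h2
  · -- both diagonal: they commute
    have : Commute r₁ r₂ := by
      apply OG_ext
      change matO (r₁ * r₂) = matO (r₂ * r₁)
      rw [matO_mul, matO_mul, h1, h2, dM_mul _ _ hl hμ, dM_mul _ _ hμ hl, mul_comm]
    rw [(commutatorElement_eq_one_iff_commute).2 this]
    exact one_mem _
  · rw [← commutatorElement_inv]
    exact inv_mem (comm_mem_sd r₂ r₁ μ lam hμ hl h2 h1)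
  · exact comm_mem_sd r₁ r₂ lam μ hl hμ h1 h2
  · apply comm_mem_of r₁ r₂ (μ * lam⁻¹) (mul_ne_zero hμ (inv_ne_zero hl))
    rw [h1, h2]
    -- `d((μ/λ)²) (s d(μ) s d(λ)) = s d(λ) s d(μ)`
    rw [← mul_assoc (sM * dM μ), sM_dM_sM μ hμ, ← mul_assoc (sM * dM lam), sM_dM_sM lam hl,
      dM_mul _ _ (inv_ne_zero hμ) hl, dM_mul _ _ (inv_ne_zero hl) hμ,
      dM_mul _ _ (pow_ne_zero 2 (mul_ne_zero hμ (inv_ne_zero hl))) (mul_ne_zero (inv_ne_zero hμ) hl)]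
    congr 1
    field_simp

theorem commutator_eq_E0 : commutator ↥(OG F) = E0 F := by
  apply le_antisymm _ E0_le_commutator
  have : (E0 F).Normal := E0_normal
  rw [commutator_def, Subgroup.commutator_le]
  intro g₁ _ g₂ _
  obtain ⟨h₁, hh₁, hf₁⟩ := exists_reduce g₁
  obtain ⟨h₂, hh₂, hf₂⟩ := exists_reduce g₂
  have hr₁ : IsRed (h₁ * g₁) := eq_dM_or_sM (h₁ * g₁) hf₁
  have hr₂ : IsRed (h₂ * g₂) := eq_dM_or_sM (h₂ * g₂) hf₂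
  have hc := comm_mem_red _ _ hr₁ hr₂
  -- pass to the quotient by `E0`
  rw [← QuotientGroup.eq_one_iff] at hc ⊢
  have e1 : ((h₁ : ↥(OG F)) : ↥(OG F) ⧸ E0 F) = 1 := (QuotientGroup.eq_one_iff _).2 hh₁
  have e2 : ((h₂ : ↥(OG F)) : ↥(OG F) ⧸ E0 F) = 1 := (QuotientGroup.eq_one_iff _).2 hh₂
  rw [commutatorElement_def] at hc ⊢
  simp only [QuotientGroup.mk_mul, QuotientGroup.mk_inv, e1, e2, one_mul] at hc ⊢
  exact hc

end Cfsg.Agent.Lib.Helper95.D4Iso
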