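import Mathlib
import Cfsg.Agent.Lib.Helper95.D4Iso.Defs
import Cfsg.Agent.Lib.Helper95.D4Iso.Chk
import Cfsg.Agent.Lib.Helper89.D4IsoRRoot
import Cfsg.Agent.Lib.Helper89.D4IsoRNat
import Cfsg.Agent.Lib.Helper89.D4IsoRTab

set_option autoImplicit false

/-!
# D4ISO-[R-MATCH]: the root elements `x_{a,b}(t)` act on `L` as the Chevalley generators `xMat r t`
-/

namespace Cfsg.Agent.Lib.Helper95.D4Iso

open Matrix Cfsg.Lie
open Cfsg.Agent.Lib.Helper89.D4Iso (rhoM_xM coord_D1_eq coord_D2_eq xMat_eq)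

variable {F : Type*} [Field F]

set_option maxRecDepth 100000 in
/-- every valid pair is a root or the opposite of a root (own copy of `valid_cases`) -/
theorem rm_valid_cases : ∀ (a b : I8), Valid a b →
    ∃ r : Fin 24, (a = rootA r ∧ b = rootXb r) ∨ (a = opp (rootXb r) ∧ b = opp (rootA r)) := by
  decide +kernel

theorem rm_eM_opp (a b : I8) : (eM (opp b) (opp a) : Matrix I8 I8 F) = - eM a b := by
  simp [eM]

theorem rootSg_sq (r : Fin 24) : rootSg r * rootSg r = 1 := by
  fin_cases r <;> rfl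

theorem rootSg_sq_cast (r : Fin 24) : ((rootSg r : ℤ) : F) * ((rootSg r : ℤ) : F) = 1 := by
  have := congrArg (Int.cast : ℤ → F) (rootSg_sq r)
  simpa using this

theorem rhoM_root (r : Fin chevD4.nroots) (t : F) :
    rhoM (xM (rootA r) (rootXb r) ((((-rootSg r : ℤ)) : F) * t)) = chevD4.xMat F r t := by
  ext i j
  rw [rhoM_xM, coord_D1_eq, coord_D2_eq, xMat_eq]
  obtain ⟨_, h⟩ := chk r
  obtain ⟨h1, h2⟩ := h i j
  rw [← h1, ← h2]
  have hs := rootSg_sq_cast (F := F) r
  push_cast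
  linear_combination (t ^ 2 * ((c2Z (rootA r) (rootXb r) i j : ℤ) : F)) * hs

theorem rm_xM_opp (a b : I8) (t : F) : xM (opp b) (opp a) t = xM a b (-t) := by
  unfold xM
  rw [rm_eM_opp]
  simp

/-- the images of the root elements are exactly the Chevalley generators -/
theorem rhoM_xM_mem (a b : I8) (h : Valid a b) (t : F) :
    ∃ (r : Fin chevD4.nroots) (t' : F), rhoM (xM a b t) = chevD4.xMat F r t' := by
  obtain ⟨r, hr | hr⟩ := rm_valid_cases a b h
  · obtain ⟨rfl, rfl⟩ := hr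
    refine ⟨r, ((-rootSg r : ℤ) : F) * t,
      Eq.trans (congrArg rhoM (congrArg (xM (rootA r) (rootXb r)) ?_)) (rhoM_root r _)⟩
    have hs := rootSg_sq_cast (F := F) r
    push_cast
    linear_combination (-t) * hs
  · obtain ⟨rfl, rfl⟩ := hr
    rw [rm_xM_opp]
    refine ⟨r, ((rootSg r : ℤ) : F) * t,
      Eq.trans (congrArg rhoM (congrArg (xM (rootA r) (rootXb r)) ?_)) (rhoM_root r _)⟩
    have hs := rootSg_sq_cast (F := F) r
    push_cast
    linear_combination (t) * hs

theorem xMat_mem (r : Fin chevD4.nroots) (t : F) :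
    ∃ (a b : I8) (_ : Valid a b) (t' : F), chevD4.xMat F r t = rhoM (xM a b t') :=
  ⟨rootA r, rootXb r, (chk r).1, ((-rootSg r : ℤ) : F) * t, (rhoM_root r t).symm⟩

end Cfsg.Agent.Lib.Helper95.D4Iso
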