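import Mathlib
import Cfsg.Agent.Lib.Helper95.D4Iso.Defs
import Cfsg.Agent.Lib.Helper95.D4Iso.RMatch
import Cfsg.Agent.Lib.Helper95.D4Iso.GAsm
import Cfsg.Agent.Lib.Helper98.D4IsoGMem
import Cfsg.Agent.Lib.Helper59.D4IsoRKer1
import Cfsg.Agent.Lib.Helper91.D4IsoRBasis
import Cfsg.Agent.Lib.Helper50.D4IsoRHomOf
import Cfsg.Agent.Lib.Helper50.D4IsoRKer2Of

set_option autoImplicit false

/-!
# D4ISO: final assembly `chevD4.group F ≃* PΩ₈⁺(F)`
-/

namespace Cfsg.Agent.Lib.Helper95.D4Iso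

open Matrix Cfsg.Lie
open Cfsg.Agent.Lib.Helper98.D4Iso (mem_OG_iff exists_xO OG_ext)
open Cfsg.Agent.Lib.Helper59.D4Iso (scalar_of_commute)
open Cfsg.Agent.Lib.Helper91.D4Iso (coordT_bT InL_bT expand)
open Cfsg.Agent.Lib.Helper50.D4Iso (rhoM_one_of rhoM_mul_of scalar_of_rhoM_eq_one_of rhoM_scalar_of)

variable {F : Type*} [Field F]

theorem fin_rhoM_one : rhoM (1 : Matrix I8 I8 F) = 1 := rhoM_one_of coordT_bT

theorem fin_rhoM_mul (g h : Matrix I8 I8 F) (hg : IsIsom g) (hh : IsIsom h) :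
    rhoM (g * h) = rhoM g * rhoM h := rhoM_mul_of InL_bT expand g h hg hh

theorem fin_scalar_of_rhoM_eq_one (g : Matrix I8 I8 F) (hg : IsIsom g) (h : rhoM g = 1) :
    ∃ c : F, g = c • (1 : Matrix I8 I8 F) := scalar_of_rhoM_eq_one_of InL_bT expand g hg h

theorem fin_rhoM_scalar (c : F) (hc : IsIsom (c • (1 : Matrix I8 I8 F))) :
    rhoM (c • (1 : Matrix I8 I8 F)) = 1 := rhoM_scalar_of coordT_bT c hc

theorem isIsom_coe (g : ↥(OG F)) : IsIsom (((g : GL I8 F) : Matrix I8 I8 F)) :=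
  (mem_OG_iff (g : GL I8 F)).1 g.2

/-- `ρ` as a monoid homomorphism into the matrices -/
noncomputable def rhoHomM : ↥(OG F) →* Matrix chevD4.Idx chevD4.Idx F where
  toFun g := rhoM (((g : GL I8 F) : Matrix I8 I8 F))
  map_one' := fin_rhoM_one
  map_mul' g h := by
    show rhoM ((((g * h : ↥(OG F)) : GL I8 F) : Matrix I8 I8 F)) = _
    have : (((g * h : ↥(OG F)) : GL I8 F) : Matrix I8 I8 F) =
        ((g : GL I8 F) : Matrix I8 I8 F) * ((h : GL I8 F) : Matrix I8 I8 F) := rfl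
    rw [this]
    exact fin_rhoM_mul _ _ (isIsom_coe g) (isIsom_coe h)

/-- `ρ : O₈⁺(F) → GL₂₈(F)` -/
noncomputable def rhoHom : ↥(OG F) →* GL chevD4.Idx F := (rhoHomM (F := F)).toHomUnits

theorem rhoHom_coe (g : ↥(OG F)) :
    ((rhoHom g : GL chevD4.Idx F) : Matrix chevD4.Idx chevD4.Idx F) =
      rhoM (((g : GL I8 F) : Matrix I8 I8 F)) := rfl

/-- the image of `E0` under `ρ` is the Chevalley group -/
theorem map_E0 : (E0 F).map (rhoHom (F := F)) = chevD4.group F := by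
  unfold E0 ChevalleyDatum.group
  rw [MonoidHom.map_closure]
  congr 1
  ext g'
  constructor
  · rintro ⟨g, ⟨a, b, hab, t, hg⟩, rfl⟩
    obtain ⟨r, t', h⟩ := rhoM_xM_mem a b hab t
    refine ⟨r, t', ?_⟩
    rw [rhoHom_coe, hg, h]
  · rintro ⟨r, t, hg'⟩
    obtain ⟨a, b, hab, t', h⟩ := xMat_mem (F := F) r t
    obtain ⟨g, hg⟩ := exists_xO (F := F) a b hab t'
    refine ⟨g, ⟨a, b, hab, t', hg⟩, ?_⟩
    apply Units.ext
    rw [rhoHom_coe, hg, hg', h]

/-- a scalar matrix in `O₈⁺(F)` commutes with everything -/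
theorem commute_of_scalar (g h : ↥(OG F)) (c : F)
    (hc : ((g : GL I8 F) : Matrix I8 I8 F) = c • (1 : Matrix I8 I8 F)) : g * h = h * g := by
  apply OG_ext
  show ((g : GL I8 F) : Matrix I8 I8 F) * ((h : GL I8 F) : Matrix I8 I8 F) =
    ((h : GL I8 F) : Matrix I8 I8 F) * ((g : GL I8 F) : Matrix I8 I8 F)
  rw [hc]
  simp

/-- on `Ω` the kernel of `ρ` is the centre -/
theorem rhoHom_eq_one_iff (g : ↥(OG F)) (_hg : g ∈ E0 F) :
    rhoHom g = 1 ↔ ∀ h ∈ E0 F, h * g = g * h := by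
  constructor
  · intro h1 h _
    have h2 : rhoM (((g : GL I8 F) : Matrix I8 I8 F)) = 1 := by
      have := congrArg (fun u : GL chevD4.Idx F => (u : Matrix chevD4.Idx chevD4.Idx F)) h1
      simpa [rhoHom_coe] using this
    obtain ⟨c, hc⟩ := fin_scalar_of_rhoM_eq_one _ (isIsom_coe g) h2
    exact (commute_of_scalar g h c hc).symm
  · intro hcomm
    have hsc : ∃ c : F, ((g : GL I8 F) : Matrix I8 I8 F) = c • (1 : Matrix I8 I8 F) := by
      apply scalar_of_commute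
      intro a b hab
      obtain ⟨x, hx⟩ := exists_xO (F := F) a b hab 1
      have hxE : x ∈ E0 F := Subgroup.subset_closure ⟨a, b, hab, 1, hx⟩
      have h3 := hcomm x hxE
      have h4 : ((x : GL I8 F) : Matrix I8 I8 F) * ((g : GL I8 F) : Matrix I8 I8 F) =
          ((g : GL I8 F) : Matrix I8 I8 F) * ((x : GL I8 F) : Matrix I8 I8 F) := by
        have := congrArg (fun u : ↥(OG F) => ((u : GL I8 F) : Matrix I8 I8 F)) h3
        exact this
      rw [hx] at h4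
      unfold xM at h4
      rw [one_smul, add_mul, mul_add, one_mul, mul_one] at h4
      exact (add_left_cancel h4).symm
    obtain ⟨c, hc⟩ := hsc
    apply Units.ext
    rw [rhoHom_coe, hc]
    have hI : IsIsom (c • (1 : Matrix I8 I8 F)) := by
      rw [← hc]; exact isIsom_coe g
    rw [fin_rhoM_scalar c hI]
    rfl

/-- **S1082**: `D₄(F) ≅ PΩ₈⁺(F)` over every field. -/
theorem chevD4_equiv_POmega :
    Nonempty (↥(chevD4.group F) ≃* Cfsg.POmega F (Cfsg.quadFormPlus 4 F)) := by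
  have hΩ : Cfsg.Omega F (Cfsg.quadFormPlus 4 F) = E0 F := commutator_eq_E0
  set Ω : Subgroup ↥(OG F) := Cfsg.Omega F (Cfsg.quadFormPlus 4 F) with hΩdef
  let ρΩ : ↥Ω →* GL chevD4.Idx F := (rhoHom (F := F)).comp Ω.subtype
  have hrange : ρΩ.range = chevD4.group F := by
    rw [MonoidHom.range_eq_map]
    show (⊤ : Subgroup ↥Ω).map ((rhoHom (F := F)).comp Ω.subtype) = _
    rw [← Subgroup.map_map, ← MonoidHom.range_eq_map, Subgroup.range_subtype, hΩ, map_E0]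
  have hker : ρΩ.ker = Subgroup.center ↥Ω := by
    ext g
    rw [MonoidHom.mem_ker, Subgroup.mem_center_iff]
    have hgE : (g : ↥(OG F)) ∈ E0 F := by rw [← hΩ]; exact g.2
    show rhoHom (g : ↥(OG F)) = 1 ↔ _
    rw [rhoHom_eq_one_iff _ hgE]
    constructor
    · intro h x
      apply Subtype.ext
      have hxE : (x : ↥(OG F)) ∈ E0 F := by rw [← hΩ]; exact x.2
      exact h _ hxE
    · intro h x hx
      have hxΩ : x ∈ Ω := by rw [hΩ]; exact hx
      have := h ⟨x, hxΩ⟩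
      exact congrArg Subtype.val this
  have e1 : (↥Ω ⧸ Subgroup.center ↥Ω) ≃* (↥Ω ⧸ ρΩ.ker) :=
    QuotientGroup.quotientMulEquivOfEq hker.symm
  have e2 : (↥Ω ⧸ ρΩ.ker) ≃* ↥ρΩ.range := QuotientGroup.quotientKerEquivRange ρΩ
  have e3 : ↥ρΩ.range ≃* ↥(chevD4.group F) := MulEquiv.subgroupCongr hrange
  exact ⟨((e1.trans e2).trans e3).symm⟩

end Cfsg.Agent.Lib.Helper95.D4Iso
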